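import Cfsg.Agent.SchurRing.PrimePower
import Mathlib.GroupTheory.Perm.Cycle.Type
import Mathlib.GroupTheory.GroupAction.Primitive
import Mathlib.GroupTheory.Sylow

/-!
Groups containing a cycle of prime power length.
-/

set_option autoImplicit false

namespace CfsgLib.SchurRing

open MulAction Subgroup

/-- A power of a `p`-element acts trivially on few cosets. -/
theorem pow_mem_normalCore {G : Type*} [Group G] [Finite G] {p n : ℕ} [Fact p.Prime] {g : G}
    (hg : g ^ p ^ n = 1) {B : Subgroup G} (hB : B.index < p ^ n) :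
    g ^ p ^ (n - 1) ∈ B.normalCore := by
  rw [Subgroup.normalCore_eq_ker, MonoidHom.mem_ker]
  refine Equiv.ext fun x => ?_
  show g ^ p ^ (n - 1) • x = x
  have hP : IsPGroup p (zpowers g) := by
    obtain ⟨k, -, hk⟩ := (Nat.dvd_prime_pow Fact.out).1 (orderOf_dvd_of_pow_eq_one hg)
    exact IsPGroup.of_card (n := k) (by rw [Nat.card_zpowers, hk])
  obtain ⟨k, hk⟩ := hP.card_orbit x
  have hle : Nat.card (orbit (zpowers g) x) ≤ B.index :=
    Nat.card_le_card_of_injective Subtype.val Subtype.val_injective
  have hkn : k ≤ n - 1 := by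
    have : p ^ k < p ^ n := hk ▸ hle.trans_lt hB
    have := (Nat.pow_lt_pow_iff_right (Fact.out : p.Prime).one_lt).1 this
    omega
  have hidx : (stabilizer (zpowers g) x).index = p ^ k := by
    rw [index_stabilizer, ← Nat.card_coe_set_eq, hk]
  have hnorm : (stabilizer (zpowers g) x).Normal := by
    haveI : IsMulCommutative (zpowers g) := inferInstance
    infer_instance
  have := (stabilizer (zpowers g) x).pow_index_mem (⟨g, mem_zpowers g⟩ : zpowers g)
  rw [hidx] at this
  have h2 : g ^ p ^ k • x = x := this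
  obtain ⟨d, hd⟩ := pow_dvd_pow p hkn
  rw [hd]
  show g ^ (p ^ k * d) • x = x
  clear hd
  induction d with
  | zero => simp
  | succ d ih => rw [Nat.mul_succ, pow_add, mul_smul, h2, ih]

/-- An element of order `p ^ m` on `p ^ m` points generates a regular subgroup. -/
theorem bijective_zpowers {G Ω : Type*} [Group G] [Finite G] [MulAction G Ω] [FaithfulSMul G Ω]
    [Finite Ω] [Nonempty Ω] {p m : ℕ} [Fact p.Prime] (hm : 1 ≤ m) (hΩ : Nat.card Ω = p ^ m) {g : G}
    (hg : orderOf g = p ^ m) : ∃ a : Ω, Function.Bijective fun x : zpowers g => x • a := by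
  have hP : IsPGroup p (zpowers g) := IsPGroup.of_card (n := m) (by rw [Nat.card_zpowers, hg])
  have hex : ∃ a : Ω, g ^ p ^ (m - 1) • a ≠ a := by
    by_contra! hall
    have h1 : g ^ p ^ (m - 1) = 1 := FaithfulSMul.eq_of_smul_eq_smul (α := Ω) fun a => by
      rw [one_smul]; exact hall a
    have h2 := orderOf_dvd_of_pow_eq_one h1
    rw [hg] at h2
    have := (Nat.pow_dvd_pow_iff_le_right (Fact.out : p.Prime).one_lt).1 h2
    omega
  obtain ⟨a, ha⟩ := hex
  refine ⟨a, ?_⟩
  obtain ⟨k, hk⟩ := hP.card_orbit a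
  have hidx : (stabilizer (zpowers g) a).index = p ^ k := by
    rw [index_stabilizer, ← Nat.card_coe_set_eq, hk]
  have hkm : m ≤ k := by
    by_contra hlt
    haveI : IsMulCommutative (zpowers g) := inferInstance
    have := (stabilizer (zpowers g) a).pow_index_mem (⟨g, mem_zpowers g⟩ : zpowers g)
    rw [hidx] at this
    obtain ⟨d, hd⟩ := pow_dvd_pow p (show k ≤ m - 1 by omega)
    have h3 := (stabilizer (zpowers g) a).pow_mem this d
    rw [← pow_mul, ← hd] at h3
    exact ha h3
  have hle : Nat.card (orbit (zpowers g) a) ≤ p ^ m := by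
    rw [← hΩ]; exact Nat.card_le_card_of_injective Subtype.val Subtype.val_injective
  have hkm' : k = m := by
    have := (Nat.pow_le_pow_iff_right (Fact.out : p.Prime).one_lt).1 (hk ▸ hle)
    omega
  subst hkm'
  have huniv : orbit (zpowers g) a = Set.univ :=
    Set.eq_of_subset_of_ncard_le (Set.subset_univ _)
      (by rw [Set.ncard_univ, hΩ, ← Nat.card_coe_set_eq, hk]) (Set.toFinite _)
  have hsurj : Function.Surjective fun x : zpowers g => x • a := fun b =>
    huniv.symm.subset (Set.mem_univ b)
  exact (Nat.bijective_iff_surjective_and_card _).2 ⟨hsurj, by rw [Nat.card_zpowers, hg, hΩ]⟩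

/-- Schur's theorem in terms of an element of prime power order. -/
theorem two_transitive_of_prime_power {G Ω : Type*} [Group G] [Finite G] [MulAction G Ω] {p m : ℕ}
    [Fact p.Prime] (hm : 2 ≤ m) {g : G} (hg : orderOf g = p ^ m) {a : Ω}
    (hbij : Function.Bijective fun x : zpowers g => x • a) (hA : IsCoatom (stabilizer G a)) :
    IsMultiplyPretransitive G Ω 2 := by
  classical
  have R : Reg (zpowers g) a :=
    ⟨fun x y => IsMulCommutative.is_comm.comm x y, hbij⟩
  haveI := Fintype.ofFinite (zpowers g)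
  refine R.two_transitive fun x y hx hy => R.orb_eq_of_prime_power hA hm
    (by rw [Nat.card_zpowers, hg]) ?_ hx hy
  rw [Nat.card_eq_fintype_card, Fintype.card_subtype]
  exact IsCyclic.card_pow_eq_one_le (Fact.out : p.Prime).pos

end CfsgLib.SchurRing
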