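import Cfsg.Agent.SchurRing.Cyclic
import Mathlib.GroupTheory.GroupAction.MultipleTransitivity

/-!
# Double transitivity from regular abelian subgroups
-/

set_option autoImplicit false

namespace CfsgLib.SchurRing

open MulAction Subgroup

variable {G Ω : Type*} [Group G] [Finite G] [MulAction G Ω] {C : Subgroup G} {a : Ω}

theorem Reg.two_transitive (R : Reg C a) (h : ∀ x y : C, x ≠ 1 → y ≠ 1 → y ∈ R.orb x) :
    IsMultiplyPretransitive G Ω 2 := by
  rw [is_two_pretransitive_iff]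
  -- every pair is carried to a pair starting at the base point
  have base : ∀ p q : Ω, p ≠ q → ∃ (g : G) (x : C), x ≠ 1 ∧ g • p = a ∧ g • q = x • a := by
    intro p q hpq
    obtain ⟨x, rfl⟩ := R.bij.2 p
    obtain ⟨y, rfl⟩ := R.bij.2 q
    refine ⟨((x : G))⁻¹, x⁻¹ * y, fun e => hpq ?_, ?_, ?_⟩
    · rw [inv_mul_eq_one.1 e]
    · show (x : G)⁻¹ • (x : G) • a = a
      rw [inv_smul_smul]
    · show (x : G)⁻¹ • (y : G) • a = ((x⁻¹ * y : C) : G) • a
      rw [Subgroup.coe_mul, mul_smul]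
      rfl
  intro p q p' q' hpq hpq'
  obtain ⟨g, x, hx, hgp, hgq⟩ := base p q hpq
  obtain ⟨g', x', hx', hgp', hgq'⟩ := base p' q' hpq'
  obtain ⟨s, hs, hsx⟩ := h x x' hx hx'
  refine ⟨g'⁻¹ * s * g, ?_, ?_⟩
  · rw [mul_smul, mul_smul, hgp, mem_stabilizer_iff.1 hs, inv_smul_eq_iff, hgp']
  · rw [mul_smul, mul_smul, hgq, ← R.img_smul s x, hsx, inv_smul_eq_iff, hgq']

end CfsgLib.SchurRing
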