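import Mathlib.Algebra.MonoidAlgebra.Basic
import Mathlib.Algebra.CharP.Lemmas
import Mathlib.Algebra.CharP.Algebra
import Mathlib.GroupTheory.GroupAction.Primitive
import Mathlib.GroupTheory.SpecificGroups.Cyclic
import Mathlib.Data.ZMod.Basic
import Mathlib.RingTheory.Congruence.Basic

/-!
# Regular abelian subgroups of permutation groups: invariant sets

For a group `G` acting on `Ω` with an abelian subgroup `C` acting regularly, a subset of `C` is
invariant when the corresponding subset of `Ω` is invariant under the stabilizer of the base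
point.  The invariant sets are the unions of basic sets of the Schur ring.
-/

set_option autoImplicit false
set_option linter.unusedSectionVars false

namespace CfsgLib.SchurRing

open MulAction Subgroup

variable {G Ω : Type*} [Group G] [MulAction G Ω]

/-- A base point and an abelian subgroup acting regularly. -/
structure Reg (C : Subgroup G) (a : Ω) : Prop where
  comm : ∀ x y : C, x * y = y * x
  bij : Function.Bijective fun x : C => x • a

variable {C : Subgroup G} {a : Ω} (R : Reg C a)

/-- The element of `C` carrying the base point to `g • x • a`. -/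
noncomputable def Reg.img (g : G) (x : C) : C :=
  (Equiv.ofBijective _ R.bij).symm (g • x • a)

theorem Reg.img_smul (g : G) (x : C) : R.img g x • a = g • x • a :=
  (Equiv.ofBijective _ R.bij).apply_symm_apply (g • x • a)

theorem Reg.img_eq {g : G} {x y : C} (h : g • x • a = y • a) : R.img g x = y :=
  R.bij.1 ((R.img_smul g x).trans h)

theorem Reg.img_mul (g h : G) (x : C) : R.img (g * h) x = R.img g (R.img h x) :=
  R.img_eq (by rw [R.img_smul, R.img_smul, mul_smul])

theorem Reg.img_one (x : C) : R.img 1 x = x := R.img_eq (one_smul G _)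

theorem Reg.img_stab {g : G} (hg : g ∈ stabilizer G a) : R.img g 1 = 1 :=
  R.img_eq (by rw [one_smul, mem_stabilizer_iff.1 hg])

theorem Reg.img_bijective (g : G) : Function.Bijective (R.img g) := by
  refine ⟨fun x y h => ?_, fun y => ⟨R.img g⁻¹ y, by rw [← R.img_mul, mul_inv_cancel, R.img_one]⟩⟩
  have := congrArg (R.img g⁻¹) h
  rwa [← R.img_mul, ← R.img_mul, inv_mul_cancel, R.img_one, R.img_one] at this

/-- A set of elements of `C` invariant under the stabilizer of the base point. -/
def Reg.Inv (S : Set C) : Prop := ∀ g ∈ stabilizer G a, ∀ x ∈ S, R.img g x ∈ S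

theorem Reg.inv_iff {S : Set C} (hS : R.Inv S) {g : G} (hg : g ∈ stabilizer G a) (x : C) :
    R.img g x ∈ S ↔ x ∈ S :=
  ⟨fun h => by
    have := hS g⁻¹ (inv_mem hg) _ h
    rwa [← R.img_mul, inv_mul_cancel, R.img_one] at this, hS g hg x⟩

/-- An invariant set gives a relation invariant under the whole group. -/
theorem Reg.arc {S : Set C} (hS : R.Inv S) (g : G) (x y : C) :
    (R.img g x)⁻¹ * R.img g y ∈ S ↔ x⁻¹ * y ∈ S := by
  have key : ∀ (g : G) (x y : C), x⁻¹ * y ∈ S → (R.img g x)⁻¹ * R.img g y ∈ S := by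
    intro g x y h
    set h0 : G := ((R.img g x : C) : G)⁻¹ * g * (x : G)
    have hh0 : h0 ∈ stabilizer G a := by
      rw [mem_stabilizer_iff, mul_smul, mul_smul, inv_smul_eq_iff]
      exact (R.img_smul g x).symm
    have := hS h0 hh0 _ h
    rwa [R.img_eq (y := (R.img g x)⁻¹ * R.img g y) ?_] at this
    show h0 • (x⁻¹ * y) • a = _
    rw [mul_smul (R.img g x)⁻¹, R.img_smul]
    simp only [h0, Subgroup.smul_def, Subgroup.coe_mul, InvMemClass.coe_inv, mul_smul,
      smul_inv_smul]
  refine ⟨fun h => ?_, key g x y⟩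
  have := key g⁻¹ _ _ h
  rwa [← R.img_mul, ← R.img_mul, inv_mul_cancel, R.img_one, R.img_one] at this

/-- The orbit of an element under the stabilizer, inside `C`. -/
def Reg.orb (x : C) : Set C := {y | ∃ g ∈ stabilizer G a, R.img g x = y}

theorem Reg.mem_orb (x : C) : x ∈ R.orb x := ⟨1, one_mem _, R.img_one x⟩

theorem Reg.inv_orb (x : C) : R.Inv (R.orb x) := by
  rintro g hg _ ⟨h, hh, rfl⟩
  exact ⟨g * h, mul_mem hg hh, R.img_mul g h x⟩

theorem Reg.orb_subset {S : Set C} (hS : R.Inv S) {x : C} (hx : x ∈ S) : R.orb x ⊆ S := by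
  rintro _ ⟨g, hg, rfl⟩
  exact hS g hg x hx

theorem Reg.orb_eq {x y : C} (h : y ∈ R.orb x) : R.orb y = R.orb x := by
  obtain ⟨g, hg, rfl⟩ := h
  refine Set.Subset.antisymm (R.orb_subset (R.inv_orb x) ⟨g, hg, rfl⟩)
    (R.orb_subset (R.inv_orb _) ⟨g⁻¹, inv_mem hg, ?_⟩)
  rw [← R.img_mul, inv_mul_cancel, R.img_one]

theorem Reg.one_notMem_orb {x : C} (hx : x ≠ 1) : (1 : C) ∉ R.orb x := by
  rintro ⟨g, hg, h⟩
  exact hx ((R.img_bijective g).1 (h.trans (R.img_stab hg).symm))

/-- The elements moving an invariant set into itself form an invariant set. -/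
theorem Reg.inv_stable {S : Set C} (hS : R.Inv S) :
    R.Inv {y | ∀ x ∈ S, y⁻¹ * x ∈ S} := by
  intro g hg y hy x hx
  obtain ⟨x0, rfl⟩ := (R.img_bijective g).2 x
  rw [R.arc hS]
  exact hy x0 ((R.inv_iff hS hg x0).1 hx)

variable [Finite G]

/-- In a primitive group an invariant set inside a proper subgroup is trivial. -/
theorem Reg.subset_one (hA : IsCoatom (stabilizer G a)) {S : Set C} (hS : R.Inv S)
    {H : Subgroup C} (hH : H ≠ ⊤) (hSH : S ⊆ H) : S ⊆ {1} := by
  set K := Subgroup.closure S
  have hKinv : R.Inv (K : Set C) := by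
    intro g hg x hx
    induction hx using Subgroup.closure_induction_right with
    | one => rw [R.img_stab hg]; exact one_mem _
    | mul_right y hy s hs ih =>
      have : (R.img g y)⁻¹ * R.img g (y * s) ∈ K :=
        Subgroup.subset_closure ((R.arc hS g y (y * s)).2 (by rwa [inv_mul_cancel_left]))
      have := mul_mem ih this
      rwa [mul_inv_cancel_left] at this
    | mul_inv_cancel y hy s hs ih =>
      have : (R.img g (y * s⁻¹))⁻¹ * R.img g y ∈ K :=
        Subgroup.subset_closure ((R.arc hS g (y * s⁻¹) y).2 (by simpa using hs))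
      have := mul_mem ih (inv_mem this)
      rwa [mul_inv_rev, inv_inv, mul_inv_cancel_left] at this
  let M : Subgroup G :=
    { carrier := {g | ∀ x, R.img g x ∈ K ↔ x ∈ K}
      one_mem' := fun x => by rw [R.img_one]
      mul_mem' := fun {g h} hg hh x => by rw [R.img_mul, hg, hh]
      inv_mem' := fun {g} hg x => by rw [← hg, ← R.img_mul, mul_inv_cancel, R.img_one] }
  have hAM : stabilizer G a ≤ M := fun g hg x => R.inv_iff hKinv hg x
  have hKM : ∀ k ∈ K, (k : G) ∈ M := fun k hk x => by
    rw [R.img_eq (y := k * x) (by rw [mul_smul]; rfl)]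
    exact K.mul_mem_cancel_left hk
  rcases hA.le_iff.1 hAM with hM | hM
  · exfalso
    refine hH (eq_top_iff.2 fun x _ => (Subgroup.closure_le H).2 hSH ?_)
    have h1 : (x : G) ∈ M := hM ▸ Subgroup.mem_top _
    have := (h1 1).2 (one_mem _)
    rwa [R.img_eq (y := x) (by rw [one_smul]; rfl)] at this
  · intro s hs
    have h1 := hKM s (Subgroup.subset_closure hs)
    rw [hM, mem_stabilizer_iff] at h1
    refine R.bij.1 ?_
    show s • a = (1 : C) • a
    rw [one_smul]
    exact h1

section Algebra

open Finset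

variable {K : Type*} [CommSemiring K]

theorem Reg.apply_mul_indicator [Fintype C] [DecidableEq C] (f : MonoidAlgebra K C) (T : Finset C)
    (y : C) :
    (f * ∑ t ∈ T, MonoidAlgebra.single t 1).coeff y
      = ∑ x ∈ univ.filter (fun x => x⁻¹ * y ∈ T), f.coeff x := by
  rw [mul_sum, MonoidAlgebra.coeff_sum, Finset.sum_apply']
  refine Finset.sum_bij' (fun t _ => y * t⁻¹) (fun x _ => x⁻¹ * y) ?_ ?_ ?_ ?_ ?_
  · intro t ht
    simpa using ht
  · intro x hx
    exact (mem_filter.1 hx).2
  · intro t _
    simp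
  · intro x _
    rw [mul_inv_rev, inv_inv, ← mul_assoc, mul_inv_cancel, one_mul]
  · intro t _
    simp

theorem Reg.pow_indicator_invariant [Fintype C] [DecidableEq C] {T : Finset C}
    (hT : R.Inv (T : Set C)) (n : ℕ) {g : G} (hg : g ∈ stabilizer G a) (y : C) :
    ((∑ t ∈ T, MonoidAlgebra.single t (1 : K)) ^ n).coeff (R.img g y)
      = ((∑ t ∈ T, MonoidAlgebra.single t (1 : K)) ^ n).coeff y := by
  induction n generalizing y with
  | zero =>
    rw [pow_zero, MonoidAlgebra.one_def, MonoidAlgebra.coeff_single]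
    have : R.img g y = 1 ↔ y = 1 := by
      rw [← (R.img_bijective g).1.eq_iff (a := y) (b := 1), R.img_stab hg]
    simp only [Finsupp.single_apply]
    by_cases hy : y = 1
    · rw [if_pos (this.2 hy).symm, if_pos hy.symm]
    · rw [if_neg (fun h => hy (this.1 h.symm)), if_neg (fun h => hy h.symm)]
  | succ n ih =>
    rw [pow_succ, Reg.apply_mul_indicator, Reg.apply_mul_indicator]
    symm
    refine Finset.sum_bij (fun x _ => R.img g x) ?_ (fun x _ x' _ h => (R.img_bijective g).1 h)
      ?_ (fun x _ => (ih x).symm)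
    · intro x hx
      simp only [mem_filter, mem_univ, true_and] at hx ⊢
      exact Finset.mem_coe.1 ((R.arc hT g x y).2 (Finset.mem_coe.2 hx))
    · intro x hx
      obtain ⟨x0, rfl⟩ := (R.img_bijective g).2 x
      simp only [mem_filter, mem_univ, true_and] at hx ⊢
      exact ⟨x0, Finset.mem_coe.1 ((R.arc hT g x0 y).1 (Finset.mem_coe.2 hx)), rfl⟩

end Algebra

end CfsgLib.SchurRing
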