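import Cfsg.Agent.SchurRing.Basic
import Mathlib.Data.Nat.ChineseRemainder
import Mathlib.Data.Nat.Factorization.PrimePow
import Mathlib.Algebra.Field.ZMod
import Mathlib.GroupTheory.Perm.Cycle.Type

/-!
# Schur's theorem: abelian regular subgroups with a cyclic Sylow subgroup
-/

set_option autoImplicit false
set_option linter.unusedSectionVars false

namespace CfsgLib.SchurRing

open MulAction Subgroup Finset

variable {G Ω : Type*} [Group G] [Finite G] [MulAction G Ω] {C : Subgroup G} {a : Ω} (R : Reg C a)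

/-- The number of `p`-th roots of `y` in an invariant set is invariant modulo `p`. -/
theorem Reg.rootCount_invariant [Fintype C] [DecidableEq C] {T : Finset C}
    (hT : R.Inv (T : Set C)) {p : ℕ} [Fact p.Prime] {g : G} (hg : g ∈ stabilizer G a) (y : C) :
    ((T.filter (fun t => t ^ p = R.img g y)).card : ZMod p)
      = ((T.filter (fun t => t ^ p = y)).card : ZMod p) := by
  letI : CommGroup C := { (inferInstance : Group C) with mul_comm := R.comm }
  haveI : CharP (MonoidAlgebra (ZMod p) C) p := charP_of_injective_algebraMap' (ZMod p) p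
  have key : ∀ z : C, ((T.filter (fun t => t ^ p = z)).card : ZMod p)
      = ((∑ t ∈ T, MonoidAlgebra.single t (1 : ZMod p)) ^ p).coeff z := by
    intro z
    rw [sum_pow_char, MonoidAlgebra.coeff_sum, Finset.sum_apply', Finset.card_filter, Nat.cast_sum]
    refine Finset.sum_congr rfl fun t _ => ?_
    rw [MonoidAlgebra.single_pow, one_pow, MonoidAlgebra.coeff_single, Finsupp.single_apply]
    split <;> simp
  rw [key, key]
  exact R.pow_indicator_invariant hT p hg y

/-- Multipliers preserve invariant sets. -/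
theorem Reg.inv_image_pow {S : Set C} (hS : R.Inv S) {m : ℕ} (hm : m.Coprime (Nat.card C)) :
    R.Inv ((fun x : C => x ^ m) '' S) := by
  classical
  haveI := Fintype.ofFinite C
  induction m using Nat.recOnMul generalizing S with
  | zero =>
    rw [Nat.coprime_zero_left] at hm
    haveI := (Nat.card_eq_one_iff_unique.1 hm).1
    rintro g - x ⟨y, hy, rfl⟩
    exact ⟨y, hy, Subsingleton.elim _ _⟩
  | one => simpa using hS
  | prime p hp =>
    haveI := Fact.mk hp
    rintro g hg _ ⟨x, hx, rfl⟩
    have hinj : Function.Injective (fun t : C => t ^ p) :=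
      (Nat.Coprime.pow_left_bijective (G := C) hm.symm).1
    have h1 : S.toFinset.filter (fun t => t ^ p = x ^ p) = {x} := by
      ext t
      simp only [mem_filter, Set.mem_toFinset, mem_singleton]
      exact ⟨fun h => hinj h.2, fun h => ⟨h ▸ hx, by rw [h]⟩⟩
    have h2 := R.rootCount_invariant (T := S.toFinset) (by simpa using hS) (p := p) hg (x ^ p)
    rw [h1, card_singleton, Nat.cast_one] at h2
    obtain ⟨t, ht⟩ : (S.toFinset.filter (fun t => t ^ p = R.img g (x ^ p))).Nonempty := by
      by_contra hne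
      rw [not_nonempty_iff_eq_empty.1 hne, card_empty, Nat.cast_zero] at h2
      exact zero_ne_one h2
    simp only [mem_filter, Set.mem_toFinset] at ht
    exact ⟨t, ht.1, ht.2⟩
  | mul i j hi hj =>
    have h := hj (hi hS (hm.coprime_mul_right)) (hm.coprime_mul_left)
    rw [Set.image_image] at h
    simp only [← pow_mul] at h
    exact h

/-- Multipliers permute the basic sets. -/
theorem Reg.image_orb {m : ℕ} (hm : m.Coprime (Nat.card C)) (x : C) :
    (fun y : C => y ^ m) '' R.orb x = R.orb (x ^ m) := by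
  obtain ⟨m', hm'⟩ := (Nat.Coprime.pow_left_bijective (G := C) hm.symm).2 x |>.imp fun _ h => h
  refine Set.Subset.antisymm ?_
    (R.orb_subset (R.inv_image_pow (R.inv_orb x) hm) ⟨x, R.mem_orb x, rfl⟩)
  -- the preimage of a basic set is invariant, as a power of the multiplier is the identity
  obtain ⟨k, hk1, hk⟩ : ∃ k : ℕ, k.Coprime (Nat.card C) ∧ ∀ z : C, (z ^ m) ^ k = z := by
    by_cases h1 : Nat.card C = 1
    · haveI := (Nat.card_eq_one_iff_unique.1 h1).1
      exact ⟨1, Nat.coprime_one_left _, fun z => Subsingleton.elim _ _⟩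
    have h2 : 1 < Nat.card C := by
      have := Nat.card_pos (α := C)
      omega
    obtain ⟨k, -, hk⟩ := Nat.exists_mul_mod_eq_one_of_coprime hm h2
    refine ⟨k, ?_, fun z => ?_⟩
    · have h5 : Nat.Coprime ((m * k) % Nat.card C) (Nat.card C) := by
        rw [hk]; exact Nat.coprime_one_left _
      rw [Nat.Coprime, ← Nat.gcd_rec, Nat.gcd_comm] at h5
      exact Nat.Coprime.coprime_mul_left h5
    · rw [← pow_mul]
      conv_rhs => rw [← pow_one z]
      exact pow_eq_pow_of_modEq (by rw [Nat.ModEq, hk, Nat.one_mod_eq_one.2 h1])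
        (pow_card_eq_one' (x := z))
  rintro _ ⟨y, hy, rfl⟩
  have := R.orb_subset (R.inv_image_pow (R.inv_orb (x ^ m)) hk1)
    ⟨x ^ m, R.mem_orb _, hk x⟩ hy
  obtain ⟨z, hz, rfl⟩ := this
  obtain ⟨w, rfl⟩ := (Nat.Coprime.pow_left_bijective (G := C) hm.symm).2 z
  simpa [hk w] using hz

/-- Wielandt: an abelian regular subgroup with a cyclic Sylow subgroup and order not a prime
power forces double transitivity. -/
theorem Reg.orb_eq_of_cyclic_sylow (hA : IsCoatom (stabilizer G a)) {p q : ℕ} [Fact p.Prime]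
    [Fact q.Prime] (hpq : q ≠ p) (hp : p ∣ Nat.card C) (hq : q ∣ Nat.card C)
    (hker : Nat.card {x : C // x ^ p = 1} ≤ p) {x y : C} (hx : x ≠ 1) (hy : y ≠ 1) :
    y ∈ R.orb x := by
  classical
  haveI := Fintype.ofFinite C
  letI : CommGroup C := { (inferInstance : Group C) with mul_comm := R.comm }
  set n := Nat.card C with hn
  obtain ⟨u, hu⟩ := exists_prime_orderOf_dvd_card' (G := C) p hp
  have hu1 : u ≠ 1 := fun h => by
    rw [h, orderOf_one] at hu; exact (Fact.out : p.Prime).one_lt.ne hu
  have hup : u ^ p = 1 := hu ▸ pow_orderOf_eq_one u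
  have hpowne : (powMonoidHom p : C →* C).range ≠ ⊤ := by
    intro h
    exact hu1 (Finite.injective_iff_surjective.2 (MonoidHom.range_eq_top.1 h) (a₁ := u) (a₂ := 1)
      (by simpa using hup))
  -- every element of order `p` is a power of `u`
  have hroots : ∀ z : C, z ^ p = 1 → ∃ j, j < p ∧ z = u ^ j := by
    intro z hz
    have h1 : (zpowers u : Set C) ⊆ {t : C | t ^ p = 1} := by
      rintro _ ⟨i, rfl⟩
      show (u ^ i) ^ p = 1
      rw [← zpow_natCast, ← zpow_mul, mul_comm, zpow_mul, zpow_natCast, hup, one_zpow]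
    have h2 : (zpowers u : Set C) = {t : C | t ^ p = 1} := by
      refine Set.eq_of_subset_of_ncard_le h1 ?_ (Set.toFinite _)
      rw [← Nat.card_coe_set_eq, ← Nat.card_coe_set_eq]
      exact hker.trans (by rw [SetLike.coe_sort_coe, Nat.card_zpowers, hu])
    have h3 : z ∈ zpowers u := (Set.ext_iff.1 h2 z).2 hz
    obtain ⟨j, hj⟩ := (Submonoid.mem_powers_iff _ _).1 (mem_powers_iff_mem_zpowers.2 h3)
    exact ⟨j % p, Nat.mod_lt _ (Fact.out : p.Prime).pos, by rw [← hu, pow_mod_orderOf, hj]⟩
  -- every basic set contains an element of order `p`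
  have hmeet : ∀ z : C, z ≠ 1 → ∃ w ∈ R.orb z, w ≠ 1 ∧ w ^ p = 1 := by
    intro z hz
    by_contra! hno
    set T := (R.orb z).toFinset
    have hT : R.Inv (T : Set C) := by simpa [T] using R.inv_orb z
    have hS : R.Inv {w : C | ((T.filter (fun t => t ^ p = w)).card : ZMod p) ≠ 0} := by
      intro g hg w hw
      show _ ≠ (0 : ZMod p)
      rw [R.rootCount_invariant hT hg w]
      exact hw
    have hS1 := R.subset_one hA hS hpowne (by
      intro w hw
      obtain ⟨t, ht⟩ : (T.filter (fun t => t ^ p = w)).Nonempty := by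
        by_contra hne
        exact hw (by rw [not_nonempty_iff_eq_empty.1 hne, card_empty, Nat.cast_zero])
      exact ⟨t, (mem_filter.1 ht).2⟩)
    -- so every fibre meeting the orbit lies in it
    have hfib : ∀ t ∈ R.orb z, t * u ∈ R.orb z := by
      intro t ht
      have ht1 : t ≠ 1 := fun h => R.one_notMem_orb hz (h ▸ ht)
      have htp : t ^ p ≠ 1 := hno t ht ht1
      set F := T.filter (fun s => s ^ p = t ^ p)
      have h0 : (F.card : ZMod p) = 0 := by
        by_contra h
        exact htp (hS1 h)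
      rw [ZMod.natCast_eq_zero_iff] at h0
      have hsub : F ⊆ Finset.univ.filter (fun s => s ^ p = t ^ p) :=
        Finset.filter_subset_filter _ (Finset.subset_univ _)
      have hcard : (Finset.univ.filter (fun s => s ^ p = t ^ p)).card ≤ p := by
        refine le_trans (le_of_eq ?_) hker
        rw [Nat.card_eq_fintype_card, Fintype.card_subtype]
        refine Finset.card_bij' (fun s _ => s * t⁻¹) (fun s _ => s * t) ?_ ?_ ?_ ?_
        · intro s hs
          simp only [mem_filter, mem_univ, true_and] at hs ⊢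
          rw [mul_pow, hs, inv_pow, mul_inv_cancel]
        · intro s hs
          simp only [mem_filter, mem_univ, true_and] at hs ⊢
          rw [mul_pow, hs, one_mul]
        · intro s _; simp
        · intro s _; simp
      have hpos : 0 < F.card := Finset.card_pos.2 ⟨t, by simp [F, T, ht]⟩
      have heq := Finset.eq_of_subset_of_card_le hsub (hcard.trans (Nat.le_of_dvd hpos h0))
      have : t * u ∈ F := by
        rw [heq]; simp [mul_pow, hup]
      simpa [T, F] using (mem_filter.1 this).1
    have hstab : ∀ t ∈ R.orb z, u⁻¹ * t ∈ R.orb z := by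
      intro t ht
      have : ∀ j : ℕ, t * u ^ j ∈ R.orb z := by
        intro j
        induction j with
        | zero => simpa using ht
        | succ j ih => rw [pow_succ, ← mul_assoc]; exact hfib _ ih
      have hu' : u⁻¹ = u ^ (p - 1) := by
        refine inv_eq_of_mul_eq_one_right ?_
        rw [← pow_succ', show p - 1 + 1 = p from Nat.sub_add_cancel (Fact.out : p.Prime).one_le, hup]
      rw [mul_comm, hu']
      exact this (p - 1)
    -- the stabilizer of the orbit is a proper invariant subgroup
    let L : Subgroup C :=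
      { carrier := {w | ∀ t, w⁻¹ * t ∈ R.orb z ↔ t ∈ R.orb z}
        one_mem' := fun t => by simp
        mul_mem' := fun {v w} hv hw t => by rw [mul_inv_rev, mul_assoc, hw, hv]
        inv_mem' := fun {w} hw t => by
          rw [inv_inv]
          conv_rhs => rw [← inv_mul_cancel_left w t]
          exact (hw (w * t)).symm }
    have hLinv := R.inv_stable (R.inv_orb z)
    have hLne : L ≠ ⊤ := fun h => R.one_notMem_orb hz (by
      have h1 := (show z ∈ L from h ▸ Subgroup.mem_top z) z
      rw [inv_mul_cancel] at h1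
      exact h1.2 (R.mem_orb z))
    refine hu1 (R.subset_one hA hLinv hLne ?_ hstab)
    intro w hw t
    refine ⟨fun h => ?_, hw t⟩
    -- `w⁻¹` permutes the finite orbit
    have hbij : Set.BijOn (fun t => w⁻¹ * t) (R.orb z) (R.orb z) :=
      (Set.toFinite _).injOn_iff_bijOn_of_mapsTo hw |>.1 (fun _ _ _ _ e => mul_left_cancel e)
    obtain ⟨s, hs, e⟩ := hbij.surjOn h
    rwa [mul_left_cancel e] at hs
  -- an element of order `q`
  obtain ⟨v, hv⟩ := exists_prime_orderOf_dvd_card' (G := C) q hq
  have hv1 : v ≠ 1 := fun h => by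
    rw [h, orderOf_one] at hv; exact (Fact.out : q.Prime).one_lt.ne hv
  have hall : ∀ w : C, w ≠ 1 → w ^ p = 1 → w ∈ R.orb v := by
    obtain ⟨u', hu', hu'1, hu'p⟩ := hmeet v hv1
    intro w hw1 hwp
    obtain ⟨i, hi, rfl⟩ := hroots u' hu'p
    obtain ⟨j, hj, rfl⟩ := hroots w hwp
    have hi0 : i ≠ 0 := fun h => hu'1 (by rw [h, pow_zero])
    have hj0 : j ≠ 0 := fun h => hw1 (by rw [h, pow_zero])
    have hpp : p.Prime := Fact.out
    obtain ⟨s, hs⟩ : ∃ s : ℕ, i * s ≡ j [MOD p] := by
      refine ⟨((j : ZMod p) / (i : ZMod p)).val, ?_⟩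
      rw [← ZMod.natCast_eq_natCast_iff, Nat.cast_mul, ZMod.natCast_zmod_val, mul_div_cancel₀]
      rw [Ne, ZMod.natCast_eq_zero_iff]
      exact fun h => absurd (Nat.le_of_dvd (Nat.pos_of_ne_zero hi0) h) (by omega)
    set e := n.factorization p
    have hnpos : n ≠ 0 := Nat.card_pos.ne'
    obtain ⟨m, hm1, hm2⟩ := Nat.chineseRemainder
      ((Nat.coprime_ordCompl hpp hnpos).pow_left e : (p ^ e).Coprime (n / p ^ e)) s 1
    have hpe : p ∣ p ^ e := dvd_pow_self p (by
      exact (hpp.factorization_pos_of_dvd hnpos hp).ne')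
    have hmp : m ≡ s [MOD p] := hm1.of_dvd hpe
    have hsp : ¬ p ∣ s := by
      intro h
      have h1 : i * s ≡ 0 [MOD p] := Nat.modEq_zero_iff_dvd.2 (h.mul_left i)
      have := Nat.modEq_zero_iff_dvd.1 (hs.symm.trans h1)
      exact absurd (Nat.le_of_dvd (Nat.pos_of_ne_zero hj0) this) (by omega)
    have hm : m.Coprime n := by
      rw [← Nat.ordProj_mul_ordCompl_eq_self n p]
      refine Nat.Coprime.mul_right ?_ ?_
      · refine Nat.Coprime.pow_right _ ?_
        exact ((hpp.coprime_iff_not_dvd).2 fun h => hsp ((hmp.dvd_iff dvd_rfl).1 h)).symm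
      · exact (Nat.Coprime.gcd_eq_one (by
          rw [Nat.Coprime, hm2.gcd_eq, Nat.gcd_one_left]))
    have hvm : v ^ m = v := by
      conv_rhs => rw [← pow_one v]
      rw [pow_eq_pow_iff_modEq, hv]
      refine hm2.of_dvd ?_
      exact Nat.dvd_div_of_mul_dvd (Nat.Coprime.mul_dvd_of_dvd_of_dvd
        (((Nat.coprime_primes hpp Fact.out).2 hpq.symm).pow_left e) (Nat.ordProj_dvd n p) hq)
    have := R.image_orb hm v
    rw [hvm] at this
    rw [← this]
    refine ⟨u ^ i, hu', ?_⟩
    show (u ^ i) ^ m = u ^ j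
    rw [← pow_mul, pow_eq_pow_iff_modEq, hu]
    exact (hmp.mul_left i).trans hs
  have horb : ∀ z : C, z ≠ 1 → R.orb z = R.orb v := by
    intro z hz
    obtain ⟨w, hw, hw1, hwp⟩ := hmeet z hz
    rw [← R.orb_eq hw, R.orb_eq (hall w hw1 hwp)]
  rw [horb x hx, ← horb y hy]
  exact R.mem_orb y

end CfsgLib.SchurRing
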