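import Cfsg.Agent.SchurRing.TwoTransitive
import Mathlib.GroupTheory.PGroup

/-!
# Schur's theorem: regular cyclic subgroups of composite prime power order
-/

set_option autoImplicit false
set_option linter.unusedSectionVars false

namespace CfsgLib.SchurRing

open MulAction Subgroup Finset

variable {G Ω : Type*} [Group G] [Finite G] [MulAction G Ω] {C : Subgroup G} {a : Ω} (R : Reg C a)

/-- Schur: a regular cyclic subgroup of order `p ^ m`, `m ≥ 2`, in a primitive group forces double
transitivity. -/
theorem Reg.orb_eq_of_prime_power (hA : IsCoatom (stabilizer G a)) {p m : ℕ} [Fact p.Prime]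
    (hm : 2 ≤ m) (hn : Nat.card C = p ^ m)
    (hker : Nat.card {x : C // x ^ p = 1} ≤ p) {x y : C} (hx : x ≠ 1) (hy : y ≠ 1) :
    y ∈ R.orb x := by
  classical
  haveI := Fintype.ofFinite C
  letI : CommGroup C := { (inferInstance : Group C) with mul_comm := R.comm }
  have hpp : p.Prime := Fact.out
  have hp : p ∣ Nat.card C := hn ▸ dvd_pow_self p (by omega)
  obtain ⟨u, hu⟩ := exists_prime_orderOf_dvd_card' (G := C) p hp
  have hu1 : u ≠ 1 := fun h => by
    rw [h, orderOf_one] at hu; exact (Fact.out : p.Prime).one_lt.ne hu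
  have hup : u ^ p = 1 := hu ▸ pow_orderOf_eq_one u
  have hpowne : (powMonoidHom p : C →* C).range ≠ ⊤ := by
    intro h
    exact hu1 (Finite.injective_iff_surjective.2 (MonoidHom.range_eq_top.1 h) (a₁ := u) (a₂ := 1)
      (by simpa using hup))
  -- every element of order `p` is a power of `u`
  have hroots : ∀ z : C, z ^ p = 1 → ∃ j, j < p ∧ z = u ^ j := by
    intro z hz
    have h1 : (zpowers u : Set C) ⊆ {t : C | t ^ p = 1} := by
      rintro _ ⟨i, rfl⟩
      show (u ^ i) ^ p = 1
      rw [← zpow_natCast, ← zpow_mul, mul_comm, zpow_mul, zpow_natCast, hup, one_zpow]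
    have h2 : (zpowers u : Set C) = {t : C | t ^ p = 1} := by
      refine Set.eq_of_subset_of_ncard_le h1 ?_ (Set.toFinite _)
      rw [← Nat.card_coe_set_eq, ← Nat.card_coe_set_eq]
      exact hker.trans (by rw [SetLike.coe_sort_coe, Nat.card_zpowers, hu])
    have h3 : z ∈ zpowers u := (Set.ext_iff.1 h2 z).2 hz
    obtain ⟨j, hj⟩ := (Submonoid.mem_powers_iff _ _).1 (mem_powers_iff_mem_zpowers.2 h3)
    exact ⟨j % p, Nat.mod_lt _ (Fact.out : p.Prime).pos, by rw [← hu, pow_mod_orderOf, hj]⟩
  -- every basic set contains an element of order `p`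
  have hmeet : ∀ z : C, z ≠ 1 → ∃ w ∈ R.orb z, w ≠ 1 ∧ w ^ p = 1 := by
    intro z hz
    by_contra! hno
    set T := (R.orb z).toFinset
    have hT : R.Inv (T : Set C) := by simpa [T] using R.inv_orb z
    have hS : R.Inv {w : C | ((T.filter (fun t => t ^ p = w)).card : ZMod p) ≠ 0} := by
      intro g hg w hw
      show _ ≠ (0 : ZMod p)
      rw [R.rootCount_invariant hT hg w]
      exact hw
    have hS1 := R.subset_one hA hS hpowne (by
      intro w hw
      obtain ⟨t, ht⟩ : (T.filter (fun t => t ^ p = w)).Nonempty := by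
        by_contra hne
        exact hw (by rw [not_nonempty_iff_eq_empty.1 hne, card_empty, Nat.cast_zero])
      exact ⟨t, (mem_filter.1 ht).2⟩)
    -- so every fibre meeting the orbit lies in it
    have hfib : ∀ t ∈ R.orb z, t * u ∈ R.orb z := by
      intro t ht
      have ht1 : t ≠ 1 := fun h => R.one_notMem_orb hz (h ▸ ht)
      have htp : t ^ p ≠ 1 := hno t ht ht1
      set F := T.filter (fun s => s ^ p = t ^ p)
      have h0 : (F.card : ZMod p) = 0 := by
        by_contra h
        exact htp (hS1 h)
      rw [ZMod.natCast_eq_zero_iff] at h0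
      have hsub : F ⊆ Finset.univ.filter (fun s => s ^ p = t ^ p) :=
        Finset.filter_subset_filter _ (Finset.subset_univ _)
      have hcard : (Finset.univ.filter (fun s => s ^ p = t ^ p)).card ≤ p := by
        refine le_trans (le_of_eq ?_) hker
        rw [Nat.card_eq_fintype_card, Fintype.card_subtype]
        refine Finset.card_bij' (fun s _ => s * t⁻¹) (fun s _ => s * t) ?_ ?_ ?_ ?_
        · intro s hs
          simp only [mem_filter, mem_univ, true_and] at hs ⊢
          rw [mul_pow, hs, inv_pow, mul_inv_cancel]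
        · intro s hs
          simp only [mem_filter, mem_univ, true_and] at hs ⊢
          rw [mul_pow, hs, one_mul]
        · intro s _; simp
        · intro s _; simp
      have hpos : 0 < F.card := Finset.card_pos.2 ⟨t, by simp [F, T, ht]⟩
      have heq := Finset.eq_of_subset_of_card_le hsub (hcard.trans (Nat.le_of_dvd hpos h0))
      have : t * u ∈ F := by
        rw [heq]; simp [mul_pow, hup]
      simpa [T, F] using (mem_filter.1 this).1
    have hstab : ∀ t ∈ R.orb z, u⁻¹ * t ∈ R.orb z := by
      intro t ht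
      have : ∀ j : ℕ, t * u ^ j ∈ R.orb z := by
        intro j
        induction j with
        | zero => simpa using ht
        | succ j ih => rw [pow_succ, ← mul_assoc]; exact hfib _ ih
      have hu' : u⁻¹ = u ^ (p - 1) := by
        refine inv_eq_of_mul_eq_one_right ?_
        rw [← pow_succ', show p - 1 + 1 = p from Nat.sub_add_cancel (Fact.out : p.Prime).one_le, hup]
      rw [mul_comm, hu']
      exact this (p - 1)
    -- the stabilizer of the orbit is a proper invariant subgroup
    let L : Subgroup C :=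
      { carrier := {w | ∀ t, w⁻¹ * t ∈ R.orb z ↔ t ∈ R.orb z}
        one_mem' := fun t => by simp
        mul_mem' := fun {v w} hv hw t => by rw [mul_inv_rev, mul_assoc, hw, hv]
        inv_mem' := fun {w} hw t => by
          rw [inv_inv]
          conv_rhs => rw [← inv_mul_cancel_left w t]
          exact (hw (w * t)).symm }
    have hLinv := R.inv_stable (R.inv_orb z)
    have hLne : L ≠ ⊤ := fun h => R.one_notMem_orb hz (by
      have h1 := (show z ∈ L from h ▸ Subgroup.mem_top z) z
      rw [inv_mul_cancel] at h1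
      exact h1.2 (R.mem_orb z))
    refine hu1 (R.subset_one hA hLinv hLne ?_ hstab)
    intro w hw t
    refine ⟨fun h => ?_, hw t⟩
    -- `w⁻¹` permutes the finite orbit
    have hbij : Set.BijOn (fun t => w⁻¹ * t) (R.orb z) (R.orb z) :=
      (Set.toFinite _).injOn_iff_bijOn_of_mapsTo hw |>.1 (fun _ _ _ _ e => mul_left_cancel e)
    obtain ⟨s, hs, e⟩ := hbij.surjOn h
    rwa [mul_left_cancel e] at hs
  -- an element that is not a `p`-th root of unity can be translated inside its orbit
  have htrans : ∀ z : C, z ≠ 1 → ∀ t ∈ R.orb z, t ^ p ≠ 1 → u * t ∈ R.orb z := by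
    intro z hz t ht htp
    obtain ⟨w, hw, hw1, hwp⟩ := hmeet z hz
    -- `u` is a power of `t ^ p`
    have hpk : ∃ l : ℕ, (t ^ p) ^ l = u := by
      have hP : IsPGroup p C := IsPGroup.of_card hn
      obtain ⟨j, hj⟩ := (IsPGroup.iff_orderOf.1 hP) (t ^ p)
      have hj0 : j ≠ 0 := fun h0 => htp (orderOf_eq_one_iff.1 (by rw [hj, h0, pow_zero]))
      set v := (t ^ p) ^ p ^ (j - 1) with hv
      have hvo : orderOf v = p := by
        rw [hv, orderOf_pow_of_dvd (pow_ne_zero _ hpp.ne_zero) (hj ▸ pow_dvd_pow p (by omega)), hj,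
          Nat.pow_div (by omega) hpp.pos, show j - (j - 1) = 1 by omega, pow_one]
      obtain ⟨i, hi, hvi⟩ := hroots v (hvo ▸ pow_orderOf_eq_one v)
      have hi0 : i ≠ 0 := fun h0 => by
        rw [hvi, h0, pow_zero, orderOf_one] at hvo; exact hpp.one_lt.ne hvo
      obtain ⟨k, -, hk⟩ := Nat.exists_mul_mod_eq_one_of_coprime
        ((hpp.coprime_iff_not_dvd.2 (Nat.not_dvd_of_pos_of_lt (Nat.pos_of_ne_zero hi0) hi)).symm)
        hpp.one_lt
      refine ⟨p ^ (j - 1) * k, ?_⟩
      rw [pow_mul, ← hv, hvi, ← pow_mul, ← pow_mod_orderOf, hu, hk, pow_one]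
    obtain ⟨l, hl⟩ := hpk
    have hcop : (1 + p * l).Coprime (Nat.card C) := by
      rw [hn]
      refine Nat.Coprime.pow_right _ (hpp.coprime_iff_not_dvd.2 fun h => ?_).symm
      exact hpp.not_dvd_one ((Nat.dvd_add_left (dvd_mul_right p l)).1 h)
    have hwfix : w ^ (1 + p * l) = w := by
      rw [pow_add, pow_one, pow_mul, hwp, one_pow, mul_one]
    have hsame : R.orb (z ^ (1 + p * l)) = R.orb z := by
      have h1 : w ∈ R.orb (z ^ (1 + p * l)) := by
        rw [← R.image_orb hcop z]; exact ⟨w, hw, hwfix⟩
      rw [← R.orb_eq h1, R.orb_eq hw]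
    have : t ^ (1 + p * l) ∈ R.orb (z ^ (1 + p * l)) := by
      rw [← R.image_orb hcop z]; exact ⟨t, ht, rfl⟩
    rw [hsame, pow_add, pow_one, pow_mul, hl] at this
    rwa [mul_comm]
  by_contra hyx
  -- the smaller of two different orbits
  obtain ⟨z, z', hz, hz', hne, hle⟩ : ∃ z z' : C, z ≠ 1 ∧ z' ≠ 1 ∧ z' ∉ R.orb z ∧
      (R.orb z).toFinset.card ≤ (R.orb z').toFinset.card := by
    rcases le_total (R.orb x).toFinset.card (R.orb y).toFinset.card with h | h
    · exact ⟨x, y, hx, hy, hyx, h⟩
    · exact ⟨y, x, hy, hx, fun hxy => hyx (by rw [R.orb_eq hxy]; exact R.mem_orb y), h⟩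
  set T := (R.orb z).toFinset with hT
  set T' := (R.orb z').toFinset with hT'
  set U : Finset C := Finset.univ.filter fun t => t ^ p = 1 with hU
  have hUcard : U.card ≤ p := by
    rwa [Nat.card_eq_fintype_card, Fintype.card_subtype] at hker
  have h1U : (1 : C) ∈ U := by simp [hU]
  have hdisj : ∀ t ∈ T, t ∉ T' := by
    intro t ht ht'
    simp only [hT, hT', Set.mem_toFinset] at ht ht'
    exact hne (by rw [← R.orb_eq ht, R.orb_eq ht']; exact R.mem_orb z')
  have hone : (1 : C) ∉ T ∧ (1 : C) ∉ T' :=
    ⟨by simpa [hT] using R.one_notMem_orb hz, by simpa [hT'] using R.one_notMem_orb hz'⟩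
  set A := T.filter fun t => t ^ p = 1 with hA'
  set B := T.filter fun t => ¬ t ^ p = 1 with hB'
  have hAB : A.card + B.card = T.card := Finset.card_filter_add_card_filter_not _
  have hsmall : A.card + 2 ≤ p := by
    obtain ⟨w, hw, hw1, hwp⟩ := hmeet z' hz'
    have hsub : insert 1 (insert w A) ⊆ U := by
      intro t ht
      rcases Finset.mem_insert.1 ht with rfl | ht
      · exact h1U
      rcases Finset.mem_insert.1 ht with rfl | ht
      · simp [hU, hwp]
      · simp [hU, (Finset.mem_filter.1 ht).2]
    have hwA : w ∉ A := fun h => hdisj w (Finset.mem_filter.1 h).1 (by simpa [hT'] using hw)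
    have h1A : (1 : C) ∉ insert w A := fun h => by
      rcases Finset.mem_insert.1 h with h | h
      · exact hw1 h.symm
      · exact hone.1 (Finset.mem_filter.1 h).1
    have := (Finset.card_le_card hsub).trans hUcard
    rw [Finset.card_insert_of_notMem h1A, Finset.card_insert_of_notMem hwA] at this
    omega
  have hBmem : ∀ t ∈ B, ∀ j : ℕ, u ^ j * t ∈ B := by
    intro t ht j
    induction j with
    | zero => simpa using ht
    | succ j ih =>
      simp only [hB', Finset.mem_filter, hT, Set.mem_toFinset] at ih ⊢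
      rw [pow_succ', mul_assoc]
      refine ⟨htrans z hz _ ih.1 ih.2, ?_⟩
      rw [mul_pow, hup, one_mul]
      exact ih.2
  have hlarge : p ≤ B.card := by
    obtain ⟨t, ht, htp⟩ : ∃ t ∈ R.orb z, t ^ p ≠ 1 := by
      by_contra! hall
      have hUne : (powMonoidHom p : C →* C).ker ≠ ⊤ := by
        intro h
        have : Nat.card C ≤ p := by
          refine le_trans (le_of_eq ?_) hker
          exact Nat.card_congr (Equiv.subtypeUnivEquiv (α := C) fun t => (by
            have hmem : t ∈ (powMonoidHom p : C →* C).ker := h ▸ Subgroup.mem_top t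
            exact (powMonoidHom_apply p t).symm.trans hmem : t ^ p = 1)).symm
        rw [hn] at this
        have := Nat.pow_le_pow_right hpp.pos hm
        nlinarith [hpp.two_le]
      exact hz (R.subset_one hA (R.inv_orb z) hUne (fun t ht => by
        simpa using hall t ht) (R.mem_orb z))
    have htB : t ∈ B := by simp [hB', hT, ht, htp]
    calc p = ((Finset.range p).image fun j => u ^ j * t).card := by
          rw [Finset.card_image_of_injOn, Finset.card_range]
          intro i hi j hj h
          have h' : u ^ i = u ^ j := mul_right_cancel h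
          rwa [pow_inj_mod, hu, Nat.mod_eq_of_lt (Finset.mem_range.1 hi),
            Nat.mod_eq_of_lt (Finset.mem_range.1 hj)] at h'
      _ ≤ B.card := Finset.card_le_card fun s hs => by
          obtain ⟨j, -, rfl⟩ := Finset.mem_image.1 hs
          exact hBmem t htB j
  -- common translates
  let f : C → ℕ := fun w => (T.filter fun t => w⁻¹ * t ∈ T).card
  have hfinv : ∀ g ∈ stabilizer G a, ∀ w, f (R.img g w) = f w := by
    intro g hg w
    refine (Finset.card_bij (fun t _ => R.img g t) ?_ ?_ ?_).symm
    · intro t ht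
      simp only [Finset.mem_filter, hT, Set.mem_toFinset] at ht ⊢
      exact ⟨R.inv_orb z g hg t ht.1, (R.arc (R.inv_orb z) g w t).2 ht.2⟩
    · intro t _ t' _ h
      exact (R.img_bijective g).1 h
    · intro t ht
      obtain ⟨s, rfl⟩ := (R.img_bijective g).2 t
      simp only [Finset.mem_filter, hT, Set.mem_toFinset] at ht ⊢
      exact ⟨s, ⟨(R.inv_iff (R.inv_orb z) hg s).1 ht.1, (R.arc (R.inv_orb z) g w s).1 ht.2⟩, rfl⟩
  have hfge : ∀ w : C, w ≠ 1 → B.card ≤ f w := by
    intro w hw
    obtain ⟨v, hv, hv1, hvp⟩ := hmeet w hw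
    obtain ⟨g, hg, rfl⟩ := hv
    rw [← hfinv g hg w]
    obtain ⟨j, -, hj⟩ := hroots _ hvp
    refine Finset.card_le_card fun t ht => Finset.mem_filter.2 ⟨(Finset.mem_filter.1 ht).1, ?_⟩
    rw [hj, show (u ^ j)⁻¹ = u ^ (j * (p - 1)) from inv_eq_of_mul_eq_one_right (by
      rw [← pow_add, show j + j * (p - 1) = p * j by
        obtain ⟨q, rfl⟩ : ∃ q, p = q + 1 := ⟨p - 1, by omega⟩
        simp; ring, pow_mul, hup, one_pow])]
    exact (Finset.mem_filter.1 (hBmem t ht _)).1
  have hsum : ∑ w : C, f w = T.card * T.card := by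
    simp only [f, Finset.card_filter]
    rw [Finset.sum_comm]
    have : ∀ t : C, ∑ w : C, (if w⁻¹ * t ∈ T then 1 else 0) = T.card := fun t => by
      rw [← Finset.card_filter]
      refine Finset.card_bij' (fun w _ => w⁻¹ * t) (fun s _ => t * s⁻¹) ?_ ?_ ?_ ?_
      · intro w hw; exact (Finset.mem_filter.1 hw).2
      · intro s hs; simp [hs]
      · intro w _; simp
      · intro s _; simp
    rw [Finset.sum_congr rfl fun t _ => this t, Finset.sum_const, smul_eq_mul]
  have hf1 : f 1 = T.card := by
    simp only [f, inv_one, one_mul]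
    rw [Finset.filter_true_of_mem fun t ht => ht]
  have hN : Finset.univ.card = Fintype.card C := Finset.card_univ
  have hlow : (Fintype.card C - 1) * B.card + T.card ≤ T.card * T.card := by
    rw [← hsum, ← Finset.sum_erase_add _ _ (Finset.mem_univ (1 : C)), hf1]
    refine Nat.add_le_add_right ?_ _
    calc (Fintype.card C - 1) * B.card = ∑ _w ∈ Finset.univ.erase (1 : C), B.card := by
          rw [Finset.sum_const, Finset.card_erase_of_mem (Finset.mem_univ _), hN, smul_eq_mul]
      _ ≤ _ := Finset.sum_le_sum fun w hw => hfge w (Finset.mem_erase.1 hw).1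
  have htwo : T.card + T'.card + 1 ≤ Fintype.card C := by
    have h1 : (1 : C) ∉ T ∪ T' := by
      rw [Finset.mem_union]; push Not; exact hone
    have := Finset.card_le_univ (insert (1 : C) (T ∪ T'))
    rw [Finset.card_insert_of_notMem h1,
      Finset.card_union_of_disjoint (Finset.disjoint_left.2 hdisj)] at this
    exact this
  have hTp : 0 < T.card := by omega
  have h2 : 2 * T.card * B.card + T.card ≤ T.card * T.card :=
    le_trans (Nat.add_le_add_right (Nat.mul_le_mul_right _ (by omega)) _) hlow
  have h3 : 2 * B.card + 1 ≤ T.card := by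
    refine Nat.le_of_mul_le_mul_left ?_ hTp
    nlinarith
  omega

end CfsgLib.SchurRing
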